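import Groth.Agent.WeakAssSch.Basic
import Groth.Agent.QCoh.Qcqs
import Mathlib.RingTheory.Ideal.MinimalPrime.Localization

/-!
# Weakly associated points of pushforwards along affine morphisms
-/

set_option linter.style.haveILetI false

universe u

open CategoryTheory AlgebraicGeometry TopologicalSpace

namespace Groth.Agent.WeakAssPush

theorem weakAss_subset_image {A B N : Type*} [CommRing A] [CommRing B] [Algebra A B]
    [AddCommGroup N] [Module A N] [Module B N] [IsScalarTower A B N] :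
    FlatCA.weakAss A N ⊆ Ideal.comap (algebraMap A B) '' FlatCA.weakAss B N := by
  rintro p ⟨m, hm⟩
  rw [← WeakAss.comap_ann (R' := B)] at hm
  obtain ⟨q, hq, rfl⟩ := Ideal.exists_minimalPrimes_comap_eq _ p hm
  exact ⟨q, ⟨m, hq⟩, rfl⟩

theorem image_weakAss_subset {A B N : Type*} [CommRing A] [CommRing B] [Algebra A B]
    [IsNoetherianRing B]
    [AddCommGroup N] [Module A N] [Module B N] [IsScalarTower A B N] :
    Ideal.comap (algebraMap A B) '' FlatCA.weakAss B N ⊆ FlatCA.weakAss A N := by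
  rintro _ ⟨q, hq, rfl⟩
  haveI := WeakAss.isPrime_of_mem hq
  obtain ⟨-, m, hm⟩ := WeakAss.mem_ass_of_fg (IsNoetherian.noetherian q) hq
  refine WeakAss.mem_weakAss_of_mem_ass ⟨inferInstance, m, ?_⟩
  rw [hm, WeakAss.comap_ann]

variable {X S : Scheme.{u}}

theorem exists_preimage (f : X ⟶ S) [IsAffineHom f] (F : X.Modules) [F.IsQuasicoherent]
    (s : S) (hs : Curv2.IsWeakAssPoint ((Scheme.Modules.pushforward f).obj F) s) :
    ∃ x : X, f x = s ∧ Curv2.IsWeakAssPoint F x := by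
  obtain ⟨V, hV, hsV, -⟩ := exists_isAffineOpen_mem_and_subset (Opens.mem_top s)
  have hW : IsAffineOpen (f ⁻¹ᵁ V) := hV.preimage f
  letI : Algebra Γ(S, V) Γ(X, f ⁻¹ᵁ V) := (f.app V).hom.toAlgebra
  letI : Module Γ(X, f ⁻¹ᵁ V) Γ((Scheme.Modules.pushforward f).obj F, V) :=
    inferInstanceAs (Module Γ(X, f ⁻¹ᵁ V) Γ(F, f ⁻¹ᵁ V))
  haveI : IsScalarTower Γ(S, V) Γ(X, f ⁻¹ᵁ V) Γ((Scheme.Modules.pushforward f).obj F, V) :=
    IsScalarTower.of_algebraMap_smul fun r m => (QCoh.push_smul f F r m).symm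
  rw [WeakAssSch.isWeakAssPoint_iff_mem _ hV s hsV] at hs
  obtain ⟨q, hq, he⟩ := weakAss_subset_image (B := Γ(X, f ⁻¹ᵁ V)) hs
  haveI := WeakAss.isPrime_of_mem hq
  obtain ⟨x, hx, rfl⟩ := WeakAssSch.exists_point_of_prime hW q
  refine ⟨x, ?_, (WeakAssSch.isWeakAssPoint_iff_mem F hW x hx).mpr hq⟩
  have hp := IsAffineOpen.comap_primeIdealOf_appLE V hV (f ⁻¹ᵁ V) hW le_rfl hx
  rw [← Scheme.Hom.app_eq_appLE] at hp
  have h2 : hV.primeIdealOf ⟨f x, hx⟩ = hV.primeIdealOf ⟨s, hsV⟩ :=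
    hp.symm.trans (PrimeSpectrum.ext he)
  have h3 := congrArg hV.fromSpec h2
  rwa [hV.fromSpec_primeIdealOf, hV.fromSpec_primeIdealOf] at h3

theorem isWeakAssPoint_push (f : X ⟶ S) [IsAffineHom f] [IsLocallyNoetherian X] (F : X.Modules)
    [F.IsQuasicoherent] (x : X) (hx : Curv2.IsWeakAssPoint F x) :
    Curv2.IsWeakAssPoint ((Scheme.Modules.pushforward f).obj F) (f x) := by
  obtain ⟨V, hV, hsV, -⟩ := exists_isAffineOpen_mem_and_subset (Opens.mem_top (f x))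
  have hW : IsAffineOpen (f ⁻¹ᵁ V) := hV.preimage f
  haveI : IsNoetherianRing Γ(X, f ⁻¹ᵁ V) := IsLocallyNoetherian.component_noetherian ⟨_, hW⟩
  letI : Algebra Γ(S, V) Γ(X, f ⁻¹ᵁ V) := (f.app V).hom.toAlgebra
  letI : Module Γ(X, f ⁻¹ᵁ V) Γ((Scheme.Modules.pushforward f).obj F, V) :=
    inferInstanceAs (Module Γ(X, f ⁻¹ᵁ V) Γ(F, f ⁻¹ᵁ V))
  haveI : IsScalarTower Γ(S, V) Γ(X, f ⁻¹ᵁ V) Γ((Scheme.Modules.pushforward f).obj F, V) :=
    IsScalarTower.of_algebraMap_smul fun r m => (QCoh.push_smul f F r m).symm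
  rw [WeakAssSch.isWeakAssPoint_iff_mem F hW x hsV] at hx
  refine (WeakAssSch.isWeakAssPoint_iff_mem _ hV (f x) hsV).mpr ?_
  have hp := IsAffineOpen.comap_primeIdealOf_appLE V hV (f ⁻¹ᵁ V) hW le_rfl hsV
  rw [← Scheme.Hom.app_eq_appLE] at hp
  rw [← hp]
  exact image_weakAss_subset (A := Γ(S, V)) (B := Γ(X, f ⁻¹ᵁ V))
    (N := Γ((Scheme.Modules.pushforward f).obj F, V)) ⟨_, hx, rfl⟩

end Groth.Agent.WeakAssPush
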